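import Mathlib.AlgebraicGeometry.Sites.Representability
import Mathlib.CategoryTheory.Sites.Over

/-!
# Representability of a sheaf on schemes over a base covered by representable open subfunctors
-/

set_option autoImplicit false
set_option backward.isDefEq.respectTransparency false
set_option backward.isDefEq.respectTransparency.types false
set_option linter.style.haveILetI false
set_option maxHeartbeats 800000

universe u

open CategoryTheory CategoryTheory.Limits AlgebraicGeometry Opposite

noncomputable section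

namespace Groth.Agent.OverGlueRep

variable {S : Scheme.{u}} (F : (Over S)ᵒᵖ ⥤ Type u)

theorem map_congr {A B : Over S} {f g : A ⟶ B} (h : f.left = g.left) (s : F.obj (op B)) :
    F.map f.op s = F.map g.op s := by
  rw [Over.OverMorphism.ext h]

theorem map_map {A B C : Over S} (f : A ⟶ B) (g : B ⟶ C) (s : F.obj (op C)) :
    F.map f.op (F.map g.op s) = F.map (f ≫ g).op s := by
  rw [op_comp, Functor.map_comp]; rfl

/-- a section over a scheme with a chosen structure map -/
structure Sec (T : Scheme.{u}) : Type u where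
  t : T ⟶ S
  s : F.obj (op (Over.mk t))

variable {F}

theorem Sec.ext' {T : Scheme.{u}} {x y : Sec F T} (e : Over.mk x.t ⟶ Over.mk y.t) (he : e.left = 𝟙 T)
    (h : x.s = F.map e.op y.s) : x = y := by
  obtain ⟨t, s⟩ := x
  obtain ⟨t', s'⟩ := y
  have ht : t = t' := by
    have := Over.w e
    rw [he] at this
    simpa using this.symm
  subst ht
  obtain rfl : e = 𝟙 _ := Over.OverMorphism.ext he
  simp at h
  subst h
  rfl

theorem Sec.exists_of_eq {T : Scheme.{u}} {x y : Sec F T} (h : x = y) :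
    ∃ e : Over.mk x.t ⟶ Over.mk y.t, e.left = 𝟙 T ∧ x.s = F.map e.op y.s := by
  subst h
  exact ⟨𝟙 _, rfl, by simp⟩

/-- restriction -/
def Sec.restr {T T' : Scheme.{u}} (x : Sec F T) (h : T' ⟶ T) : Sec F T' where
  t := h ≫ x.t
  s := F.map (Over.homMk h rfl : Over.mk (h ≫ x.t) ⟶ Over.mk x.t).op x.s

/-- the section given by an object over the base -/
abbrev mkSec {A : Over S} (a : F.obj (op A)) : Sec F A.left := ⟨A.hom, a⟩

theorem restr_mkSec {A B : Over S} (f : B ⟶ A) (a : F.obj (op A)) :
    (mkSec a).restr f.left = mkSec (F.map f.op a) := by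
  refine Sec.ext' (Over.homMk (𝟙 _) (by simp [Sec.restr])) rfl ?_
  exact (map_congr F (by simp [Sec.restr]) a).trans (map_map F _ f a).symm

theorem Sec.restr_restr {T T' T'' : Scheme.{u}} (x : Sec F T) (h : T' ⟶ T) (h' : T'' ⟶ T') :
    (x.restr h).restr h' = x.restr (h' ≫ h) := by
  refine Sec.ext' (Over.homMk (𝟙 _) (by simp [Sec.restr])) rfl ?_
  exact (map_map F _ _ x.s).trans ((map_congr F (by simp) x.s).trans (map_map F _ _ x.s).symm)

variable (F)

/-- the sheaf of sections on all schemes -/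
def secFunctor : Scheme.{u}ᵒᵖ ⥤ Type u where
  obj T := Sec F T.unop
  map h := TypeCat.ofHom fun x => x.restr h.unop
  map_id T := by
    ext x
    refine Sec.ext' (Over.homMk (𝟙 _) (by simp [Sec.restr])) rfl ?_
    exact map_congr F (by simp) x.s
  map_comp {A B C} h h' := by
    ext x
    exact (x.restr_restr h.unop h'.unop).symm

theorem isSheaf_secFunctor (hF : Presheaf.IsSheaf (Scheme.zariskiTopology.over S) F) :
    Presieve.IsSheaf Scheme.zariskiTopology (secFunctor F) := by
  refine (Precoverage.isSheaf_toGrothendieck_iff_of_isStableUnderBaseChange_of_small.{u} _).mpr fun T E => ?_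
  rw [PreZeroHypercover.presieve₀, Presieve.isSheafFor_arrows_iff]
  intro x hx
  obtain ⟨hc, ho⟩ := (Scheme.ofArrows_mem_precoverage_iff _).mp E.mem₀
  haveI : ∀ i, IsOpenImmersion (E.f i) := ho
  let 𝒰 : T.OpenCover := Scheme.Cover.mkOfCovers E.I₀ E.X E.f (fun t => hc t)
  have hx' : ∀ (i k : E.I₀) {W : Scheme.{u}} (a : W ⟶ E.X i) (b : W ⟶ E.X k),
      a ≫ E.f i = b ≫ E.f k → (x i).restr a = (x k).restr b := fun i k W a b hab => hx i k W a b hab
  have ht : ∀ i k, pullback.fst (E.f i) (E.f k) ≫ (x i).t = pullback.snd _ _ ≫ (x k).t := fun i k =>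
    congrArg Sec.t (hx' i k _ _ pullback.condition)
  let t : T ⟶ S := 𝒰.glueMorphisms (fun i => (x i).t) ht
  have hjt : ∀ i, E.f i ≫ t = (x i).t := fun i => 𝒰.ι_glueMorphisms _ ht i
  let π : ∀ i, Over.mk (x i).t ⟶ Over.mk t := fun i => Over.homMk (E.f i) (hjt i)
  have hmem : Sieve.generate (Presieve.ofArrows (fun i => Over.mk (x i).t) π) ∈
      Scheme.zariskiTopology.over S (Over.mk t) := by
    rw [GrothendieckTopology.mem_over_iff]
    refine GrothendieckTopology.superset_covering _ ?_ 𝒰.mem_grothendieckTopology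
    rintro V h ⟨W, a, _, ⟨i⟩, rfl⟩
    rw [Sieve.overEquiv_iff]
    exact ⟨_, (Over.homMk a (by
      show a ≫ (x i).t = (a ≫ E.f i) ≫ t
      rw [Category.assoc, hjt]) : Over.mk ((a ≫ E.f i) ≫ t) ⟶ Over.mk (x i).t), π i, ⟨i⟩, Over.OverMorphism.ext rfl⟩
  have hsh : (Presieve.ofArrows (fun i => Over.mk (x i).t) π).IsSheafFor F :=
    Presieve.isSheafFor_iff_generate _ |>.2 (((isSheaf_iff_isSheaf_of_type _ _).1 hF) _ hmem)
  rw [Presieve.isSheafFor_arrows_iff] at hsh
  obtain ⟨s, hs, huniq⟩ := hsh (fun i => (x i).s) (fun i k W a b hab => by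
    have h := hx' i k a.left b.left (congrArg CommaMorphism.left hab)
    obtain ⟨e, he, h'⟩ := Sec.exists_of_eq h
    let eW : W ⟶ Over.mk (a.left ≫ (x i).t) := Over.homMk (𝟙 _) (by simpa using Over.w a)
    refine Eq.trans ?_ ((congrArg (F.map eW.op) h').trans ?_)
    · show F.map a.op _ = F.map eW.op (F.map _ _)
      rw [map_map]
      exact map_congr F (by simp [eW]) _
    · exact ((congrArg (F.map eW.op) (map_map F e _ (x k).s)).trans (map_map F eW _ (x k).s)).trans
        (map_congr F (by simp [eW, he]) _))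
  refine ⟨⟨t, s⟩, fun i => ?_, fun y hy => ?_⟩
  · show Sec.restr ⟨t, s⟩ (E.f i) = x i
    refine Sec.ext' (Over.homMk (𝟙 _) (by simpa [Sec.restr] using (hjt i).symm)) rfl ?_
    refine Eq.trans ?_ (congrArg (F.map _) (hs i))
    exact (map_congr F (by simp [π]) s).trans (map_map F _ _ s).symm
  · have hyt : y.t = t := Scheme.Cover.hom_ext 𝒰 _ _ fun i => (congrArg Sec.t (hy i)).trans (hjt i).symm
    let e : Over.mk t ⟶ Over.mk y.t := Over.homMk (𝟙 _) (by simp [hyt])
    have hes : F.map e.op y.s = s := huniq _ fun i => by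
      obtain ⟨d, hd, h'⟩ := Sec.exists_of_eq (hy i).symm
      rw [h']
      show F.map (π i).op (F.map e.op y.s) = F.map d.op (F.map _ y.s)
      rw [map_map, map_map]
      exact map_congr F (by simp [π, e, hd]) _
    refine Sec.ext' (Over.homMk (𝟙 _) (by simp [hyt])) rfl ?_
    rw [← hes, map_map, map_congr F (g := 𝟙 _) (by simp [e]) y.s]
    simp

/-- A Zariski sheaf on schemes over a base which is covered by representable open subfunctors is representable. -/
theorem exists_representableBy (hF : Presheaf.IsSheaf (Scheme.zariskiTopology.over S) F) {ι : Type u}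
    (Z : ι → Over S) (κ : ∀ i, yoneda.obj (Z i) ⟶ F)
    (hκ : ∀ i (T : Over S), Function.Injective ((κ i).app (op T)))
    (O : ∀ (_ : ι) (T : Over S), F.obj (op T) → T.left.Opens)
    (hO : ∀ i (T : Over S) (s : F.obj (op T)) (W : Over S) (g : W ⟶ T),
      Set.range g.left ⊆ (O i T s : Set T.left) ↔ ∃ z : W ⟶ Z i, (κ i).app (op W) z = F.map g.op s)
    (hcov : ∀ (T : Over S) (s : F.obj (op T)) (p : T.left), ∃ i, p ∈ O i T s) :
    ∃ H : Over S, Nonempty (F.RepresentableBy H) := by
  classical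
  let Fs : Sheaf Scheme.zariskiTopology (Type u) :=
    ⟨secFunctor F, (isSheaf_iff_isSheaf_of_type _ _).mpr (isSheaf_secFunctor F hF)⟩
  let x₀ : ∀ i, Sec F (Z i).left := fun i => mkSec ((κ i).app (op (Z i)) (𝟙 (Z i)))
  let κ' : ∀ i, yoneda.obj (Z i).left ⟶ secFunctor F := fun i => yonedaEquiv.symm (x₀ i)
  have κeq : ∀ i {A : Over S} (f : A ⟶ Z i), (x₀ i).restr f.left = mkSec ((κ i).app (op A) f) := by
    intro i A f
    rw [restr_mkSec]
    congr 1
    have h := ConcreteCategory.congr_hom ((κ i).naturality f.op) (𝟙 (Z i))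
    simpa using h.symm
  have hopen : ∀ i, IsOpenImmersion.presheaf (κ' i) := fun i => by
    refine MorphismProperty.relative.of_exists fun T q => ?_
    let z : Sec F T := yonedaEquiv q
    have hq : ∀ (Y : Scheme.{u}ᵒᵖ) (y : Y.unop ⟶ T), q.app Y y = z.restr y := fun Y y => by
      conv_lhs => rw [← yonedaEquiv.symm_apply_apply q]
      rfl
    let U := O i (Over.mk z.t) z.s
    obtain ⟨k, hk⟩ := (hO i (Over.mk z.t) z.s (Over.mk (U.ι ≫ z.t)) (Over.homMk U.ι rfl)).1
      (by show Set.range U.ι ⊆ _; rw [Scheme.Opens.range_ι])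
    have hk' : (x₀ i).restr k.left = z.restr U.ι := by
      rw [κeq, hk]; rfl
    refine ⟨U.toScheme, yoneda.map k.left, U.ι, ?_, inferInstance⟩
    refine IsPullback.of_forall_isPullback_app fun Y => ?_
    refine (Types.isPullback_iff _ _ _ _).mpr ⟨?_, ?_, ?_⟩
    · ext (a : Y.unop ⟶ U.toScheme)
      change (x₀ i).restr (a ≫ k.left) = q.app Y (a ≫ U.ι)
      rw [hq]
      rw [← Sec.restr_restr, hk', Sec.restr_restr]
    · rintro (a : Y.unop ⟶ U.toScheme) (a' : Y.unop ⟶ U.toScheme) h
      exact (cancel_mono U.ι).mp h.2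
    · rintro (a : Y.unop ⟶ (Z i).left) (y : Y.unop ⟶ T) h
      rw [hq] at h
      change (x₀ i).restr a = z.restr y at h
      let A : Over S := Over.mk (y ≫ z.t)
      have hat : a ≫ (Z i).hom = y ≫ z.t := congrArg Sec.t h
      let a' : A ⟶ Z i := Over.homMk a hat
      have ha : mkSec ((κ i).app (op A) a') = z.restr y := (κeq i a').symm.trans h
      have ha' : (κ i).app (op A) a' = F.map (Over.homMk y rfl : A ⟶ Over.mk z.t).op z.s := by
        obtain ⟨e, he, h'⟩ := Sec.exists_of_eq ha
        refine h'.trans ?_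
        exact (map_map F e _ z.s).trans (map_congr F (by simp [he]) z.s)
      let l := IsOpenImmersion.lift U.ι y (by
        rw [Scheme.Opens.range_ι]; exact (hO i _ z.s A (Over.homMk y rfl)).2 ⟨a', ha'⟩)
      have hl : l ≫ U.ι = y := IsOpenImmersion.lift_fac _ _ _
      refine ⟨l, ?_, hl⟩
      change l ≫ k.left = a
      let l' : A ⟶ Over.mk (U.ι ≫ z.t) := Over.homMk l (by
        show l ≫ U.ι ≫ z.t = y ≫ z.t
        rw [reassoc_of% hl])
      have heq : l' ≫ k = a' := hκ i A (by
        rw [ha']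
        refine (ConcreteCategory.congr_hom ((κ i).naturality l'.op) k).trans ?_
        exact ((congrArg (F.map l'.op) hk).trans (map_map F _ _ z.s)).trans (map_congr F (by simp [l', hl]) z.s))
      exact congrArg CommaMorphism.left heq
  haveI : Presheaf.IsLocallySurjective Scheme.zariskiTopology (Sigma.desc κ') := by
    refine ⟨fun {T} (z : Sec F T) => ?_⟩
    choose c hc using hcov (Over.mk z.t) z.s
    let 𝒰 : T.OpenCover := Scheme.Cover.mkOfCovers T (fun p => (O (c p) _ z.s).toScheme)
      (fun p => (O (c p) _ z.s).ι) fun p => ⟨p, ⟨p, hc p⟩, rfl⟩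
    refine GrothendieckTopology.superset_covering _ ?_ 𝒰.mem_grothendieckTopology
    rintro V h ⟨W, a, _, ⟨p⟩, rfl⟩
    let U := O (c p) _ z.s
    obtain ⟨k, hk⟩ := (hO (c p) (Over.mk z.t) z.s (Over.mk (U.ι ≫ z.t)) (Over.homMk U.ι rfl)).1
      (by show Set.range U.ι ⊆ _; rw [Scheme.Opens.range_ι])
    refine ⟨(Sigma.ι (fun i => yoneda.obj (Z i).left) (c p)).app (op V) (a ≫ k.left), ?_⟩
    change ((Sigma.ι (fun i => yoneda.obj (Z i).left) (c p)) ≫ Sigma.desc κ').app (op V) (a ≫ k.left) = _
    rw [Sigma.ι_desc]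
    refine Eq.trans (?_ : (x₀ (c p)).restr (a ≫ k.left) = z.restr (a ≫ U.ι)) rfl
    rw [← Sec.restr_restr, κeq, hk, ← Sec.restr_restr]
    rfl
  obtain ⟨H, ⟨r⟩⟩ := Scheme.LocalRepresentability.isRepresentable (F := Fs) (f := κ') hopen
  let xH : Sec F H := r.homEquiv (𝟙 H)
  have he : ∀ {T : Scheme.{u}} (m : T ⟶ H), r.homEquiv m = xH.restr m := fun m => by
    rw [r.homEquiv_eq m]
    rfl
  have key : ∀ {A : Over S} (v : A ⟶ Over.mk xH.t), xH.restr v.left = mkSec (F.map v.op xH.s) := fun v =>
    restr_mkSec (A := Over.mk xH.t) v xH.s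
  have hbij : ∀ A : Over S, Function.Bijective (fun v : A ⟶ Over.mk xH.t => F.map v.op xH.s) := fun A => by
    refine ⟨fun v w e => Over.OverMorphism.ext (r.homEquiv.injective ?_), fun a => ?_⟩
    · rw [he, he, key, key]
      exact congrArg mkSec e
    · have hz : xH.restr (r.homEquiv.symm (mkSec a)) = mkSec a := (he _).symm.trans (r.homEquiv.apply_symm_apply _)
      let v : A ⟶ Over.mk xH.t := Over.homMk (r.homEquiv.symm (mkSec a)) (congrArg Sec.t hz)
      refine ⟨v, ?_⟩
      obtain ⟨e, he', h'⟩ := Sec.exists_of_eq ((key v).symm.trans hz)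
      refine h'.trans ?_
      exact (map_congr F (g := 𝟙 A) he' a).trans (by simp)
  exact ⟨Over.mk xH.t, ⟨{ homEquiv := fun {A} => Equiv.ofBijective _ (hbij A)
                          homEquiv_comp := fun f g => (map_map F f g xH.s).symm }⟩⟩

end Groth.Agent.OverGlueRep
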